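import Mathlib.FieldTheory.Finite.Basic
import Mathlib.Algebra.CharP.Lemmas
import Mathlib.Tactic

/-!
# Fields with 25 elements (helper771)
-/

set_option autoImplicit false
set_option linter.unusedSectionVars false

namespace Cfsg.Agent.H771.M5

/-- a field with 25 elements -/
class F25 (K : Type*) [Field K] : Prop where
  card : Nat.card K = 25

variable {K : Type*} [Field K] [F25 K]

theorem F25.finite (K : Type*) [Field K] [F25 K] : Finite K := by
  have h := F25.card (K := K)
  exact Nat.finite_of_card_ne_zero (by rw [h]; norm_num)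

theorem five (K : Type*) [Field K] [F25 K] : (5 : K) = 0 := by
  have := F25.finite K
  have h1 : ((25 : ℕ) : K) = 0 := by
    have : Fintype K := Fintype.ofFinite K
    rw [← F25.card (K := K), Nat.card_eq_fintype_card]
    exact Nat.cast_card_eq_zero K
  have h2 : (5 : K) * 5 = 0 := by
    have h3 : (5 : K) * 5 = ((25 : ℕ) : K) := by norm_num
    rw [h3, h1]
  exact (mul_self_eq_zero.1 h2)

theorem charP (K : Type*) [Field K] [F25 K] : CharP K 5 := by
  have h : ((5 : ℕ) : K) = 0 := by
    have := five K
    exact_mod_cast this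
  haveI : Fact (Nat.Prime 5) := ⟨by norm_num⟩
  exact (CharP.charP_iff_prime_eq_zero (by norm_num)).2 h

theorem pow25 (x : K) : x ^ 25 = x := by
  have := F25.finite K
  have : Fintype K := Fintype.ofFinite K
  have h := FiniteField.pow_card x
  rwa [← Nat.card_eq_fintype_card, F25.card (K := K)] at h

theorem units_pow (a : Kˣ) : (a : K) ^ 24 = 1 := by
  have h := pow25 (a : K)
  have h2 : (a : K) * (a : K) ^ 24 = a * 1 := by
    rw [mul_one]
    rw [← pow_succ']
    exact h
  exact mul_left_cancel₀ a.ne_zero h2

/-- the conjugation -/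
def bar (x : K) : K := x ^ 5

theorem bar_def (x : K) : bar x = x ^ 5 := rfl

@[simp] theorem bar_add (x y : K) : bar (x + y) = bar x + bar y := by
  have := charP K
  haveI : Fact (Nat.Prime 5) := ⟨by norm_num⟩
  exact add_pow_char x y 5

@[simp] theorem bar_mul (x y : K) : bar (x * y) = bar x * bar y := mul_pow x y 5

@[simp] theorem bar_pow (x : K) (n : ℕ) : bar (x ^ n) = bar x ^ n := by
  unfold bar
  rw [← pow_mul, ← pow_mul, mul_comm]

@[simp] theorem bar_zero : bar (0 : K) = 0 := by unfold bar; norm_num

@[simp] theorem bar_one : bar (1 : K) = 1 := by unfold bar; norm_num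

@[simp] theorem bar_neg (x : K) : bar (-x) = - bar x := by unfold bar; ring

@[simp] theorem bar_sub (x y : K) : bar (x - y) = bar x - bar y := by
  rw [sub_eq_add_neg, bar_add, bar_neg, sub_eq_add_neg]

@[simp] theorem bar_bar (x : K) : bar (bar x) = x := by
  unfold bar
  rw [← pow_mul]
  exact pow25 x

theorem bar_eq_zero {x : K} : bar x = 0 ↔ x = 0 := by
  unfold bar
  exact pow_eq_zero_iff (by norm_num)

theorem bar_injective : Function.Injective (bar : K → K) := fun x y h => by
  rw [← bar_bar x, h, bar_bar]

theorem bar_surjective : Function.Surjective (bar : K → K) := fun x => ⟨bar x, bar_bar x⟩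

@[simp] theorem bar_ofNat3 : bar (3 : K) = 3 := by
  unfold bar
  have h := five K
  linear_combination 48 * h

end Cfsg.Agent.H771.M5
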