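import Cfsg.Agent.H771.M5.Main
import Cfsg.Agent.H777.M5.CGDef
import Cfsg.Agent.H777.M5.Elim5Def

/-!
# The exotic system over helper777's `CG` (helper771)
-/

set_option autoImplicit false
set_option linter.style.haveILetI false

namespace Cfsg.Agent.H771.M5

open Cfsg Cfsg.Agent.H777.Elim5

universe u

theorem f25 : F25 Cfsg.Agent.H777.M5.K25 :=
  ⟨by rw [Nat.card_eq_fintype_card, Cfsg.Agent.H777.M5.K25.card_K]⟩

/-- the two descriptions of `CG` agree -/
def cgEquiv : @CG Cfsg.Agent.H777.M5.K25 ≃ Cfsg.Agent.H777.M5.CG where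
  toFun x := ⟨x.al, x.ga, x.de, x.be⟩
  invFun x := ⟨x.al, x.ga, x.de, x.be⟩
  left_inv _ := rfl
  right_inv _ := rfl

theorem exists_exotic_CG {Om : Type u} [Group Om] (C : Subgroup Om) (e : Cfsg.Agent.H777.M5.CG ≃* C)
    (helim : ∀ (K : Type u) [Group K] [Finite K] [IsSimpleGroup K], Vn5 8 K → Big5 K) :
    ∃ F : FusionSystem C, F.IsExotic 5 ∧ ¬ F.IsNormal C := by
  haveI := f25
  have hbar : ∀ x : Cfsg.Agent.H777.M5.K25, bar x = Cfsg.Agent.H777.M5.K25.cj x := fun x =>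
    (Cfsg.Agent.H777.M5.K25.cj_eq_pow x).symm
  let e1 : CG Cfsg.Agent.H777.M5.K25 ≃* Cfsg.Agent.H777.M5.CG :=
    { cgEquiv with
      map_mul' := fun x y => by
        apply Cfsg.Agent.H777.M5.CG.ext
        · rfl
        · show x.ga + y.ga + x.be * bar y.al = x.ga + (y.ga + x.be * Cfsg.Agent.H777.M5.K25.cj y.al)
          rw [hbar, add_assoc]
        · show x.de + y.de + x.be * y.ga + 3 * bar x.be * y.al ^ 2 + 3 * x.be ^ 2 * bar y.al
            + x.al * bar (y.ga + x.be * bar y.al) =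
            x.de + (y.de + x.be * y.ga + 3 * Cfsg.Agent.H777.M5.K25.cj x.be * y.al ^ 2 +
              3 * x.be ^ 2 * Cfsg.Agent.H777.M5.K25.cj y.al) +
              x.al * Cfsg.Agent.H777.M5.K25.cj (y.ga + x.be * Cfsg.Agent.H777.M5.K25.cj y.al)
          rw [hbar, hbar, hbar]
          ring
        · rfl }
  exact exists_exotic (e1.trans e) (fun L _ _ _ h8 h9 => helim L ⟨h8, h9⟩)

end Cfsg.Agent.H771.M5
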