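import Cfsg.Agent.H771.M5.AbBound
import Cfsg.Agent.H777.Count

/-!
# No normal subgroup meets the Sylow subgroup in `N` (helper771)
-/

set_option autoImplicit false
set_option linter.unusedSectionVars false
set_option linter.style.haveILetI false

namespace Cfsg.Agent.H771.M5

open CG Cfsg Cfsg.Agent.H777.Real

universe v

variable {K : Type*} [Field K] [F25 K]

/-- what we use of the fusion in `G` -/
structure Facts {G : Type v} [Group G] (ι : CG K →* G) : Prop where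
  inj : Function.Injective ι
  tor : ∀ a : Kˣ, ∃ g : G, ∀ x : CG K, ι (th a x) = g * ι x * g⁻¹
  sl : ∀ m : Matrix.SpecialLinearGroup (Fin 2) K, ∃ g : G, ∀ w : K × K, ι (vv (mv m w)) = g * ι (vv w) * g⁻¹
  norN : ∀ g : G, (∀ x ∈ NC K, ∃ y, ι y = g * ι x * g⁻¹) → ∃ s : CG K, ∃ a : Kˣ, ∀ x ∈ NC K,
    g * ι x * g⁻¹ = ι (s * th a x * s⁻¹)

/-- a normal subgroup traces a closed subgroup -/
theorem Facts.trichotomy {G : Type v} [Group G] {ι : CG K →* G} (hF : Facts ι) {M : Subgroup G} (hM : M.Normal) :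
    M.comap ι = ⊥ ∨ M.comap ι = NC K ∨ M.comap ι = ⊤ := by
  refine closed_trichotomy _ inferInstance ?_ ?_
  · intro a x hx
    obtain ⟨g, hg⟩ := hF.tor a
    show ι (th a x) ∈ M
    rw [hg]
    exact hM.conj_mem _ hx g
  · intro m w hw
    obtain ⟨g, hg⟩ := hF.sl m
    show ι (vv (mv m w)) ∈ M
    rw [hg]
    exact hM.conj_mem _ hw g

theorem h_decomp (a : Kˣ) : mk2 (a : K) 0 0 ((a⁻¹ : Kˣ) : K) (by simp) =
    mk2 1 (a : K) 0 1 (by ring) * mk2 1 0 (-((a⁻¹ : Kˣ) : K)) 1 (by ring) * mk2 1 (a : K) 0 1 (by ring) *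
      (mk2 1 (-1) 0 1 (by ring) * mk2 1 0 1 1 (by ring) * mk2 1 (-1) 0 1 (by ring)) := by
  have h : (a : K) * ((a⁻¹ : Kˣ) : K) = 1 := by simp
  apply mv_ext
  intro w
  simp only [mv_mul, mv_mk2]
  ext
  · simp only
    linear_combination ((a : K) * w.1 - w.2) * h
  · simp only
    linear_combination w.1 * h

theorem up_conj (c : K) : mk2 1 c 0 1 (by ring) =
    mk2 0 (-1) 1 0 (by ring) * mk2 1 0 (-c) 1 (by ring) * (mk2 0 (-1) 1 0 (by ring))⁻¹ := by
  rw [eq_mul_inv_iff_mul_eq]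
  apply mv_ext
  intro w
  simp only [mv_mul, mv_mk2]
  ext
  · simp only
    ring
  · simp only
    ring

/-- the matrices induced by a subgroup -/
def IndS {G : Type v} [Group G] (ι : CG K →* G) (M : Subgroup G) :
    Subgroup (Matrix.SpecialLinearGroup (Fin 2) K) where
  carrier := {m | ∃ g ∈ M, ∀ w : K × K, ι (vv (mv m w)) = g * ι (vv w) * g⁻¹}
  one_mem' := ⟨1, M.one_mem, fun w => by rw [mv_one]; simp⟩
  mul_mem' := fun {m n} ⟨g, hg, h⟩ ⟨g', hg', h'⟩ => ⟨g * g', M.mul_mem hg hg', fun w => by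
    rw [mv_mul, h, h']
    group⟩
  inv_mem' := fun {m} ⟨g, hg, h⟩ => ⟨g⁻¹, M.inv_mem hg, fun w => by
    have h1 := h (mv m⁻¹ w)
    rw [← mv_mul, mul_inv_cancel, mv_one] at h1
    rw [h1]
    group⟩

theorem IndS_conj {G : Type v} [Group G] {ι : CG K →* G} (hF : Facts ι) {M : Subgroup G} (hM : M.Normal)
    {m : Matrix.SpecialLinearGroup (Fin 2) K} (hm : m ∈ IndS ι M) (n : Matrix.SpecialLinearGroup (Fin 2) K) :
    n * m * n⁻¹ ∈ IndS ι M := by
  obtain ⟨g, hg, h⟩ := hm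
  obtain ⟨k, hk⟩ := hF.sl n
  refine ⟨k * g * k⁻¹, hM.conj_mem _ hg k, fun w => ?_⟩
  have h1 := hk (mv n⁻¹ w)
  rw [← mv_mul, mul_inv_cancel, mv_one] at h1
  rw [mv_mul, mv_mul, hk, h, h1]
  group

/-- the torus of `SL₂` is induced by a normal subgroup containing `N` -/
theorem tor_mem_IndS {G : Type v} [Group G] {ι : CG K →* G} (hF : Facts ι) {M : Subgroup G} (hM : M.Normal)
    (hN : NC K ≤ M.comap ι) (a : Kˣ) : mk2 (a : K) 0 0 ((a⁻¹ : Kˣ) : K) (by simp) ∈ IndS ι M := by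
  have hL : ∀ c : K, mk2 1 0 c 1 (by ring) ∈ IndS ι M := by
    intro c
    obtain ⟨d, hd⟩ := bar_surjective (-c)
    refine ⟨ι ⟨0, d, 0, 0⟩, hN rfl, fun w => ?_⟩
    rw [← map_mul, ← map_inv, ← map_mul, conj_vv _ rfl, mv_mk2]
    congr 2
    ext
    · simp
    · show c * w.1 + 1 * w.2 = w.2 - w.1 * bar d
      rw [hd]
      ring
  have hU : ∀ c : K, mk2 1 c 0 1 (by ring) ∈ IndS ι M := by
    intro c
    rw [up_conj]
    exact IndS_conj hF hM (hL _) _
  rw [h_decomp]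
  exact mul_mem (mul_mem (mul_mem (hU _) (hL _)) (hU _)) (mul_mem (mul_mem (hU _) (hL _)) (hU _))

/-- conjugation by a power -/
theorem pow_act {G : Type v} [Group G] {ι : CG K →* G} {m : G} {u : CG K}
    (h : ∀ x ∈ NC K, m * ι x * m⁻¹ = ι (u * x * u⁻¹)) (hN : (NC K).Normal) (n : ℕ) :
    ∀ x ∈ NC K, m ^ n * ι x * (m ^ n)⁻¹ = ι (u ^ n * x * (u ^ n)⁻¹) := by
  induction n with
  | zero => intro x _; simp
  | succ n ih =>
    intro x hx
    have e1 : m ^ (n + 1) * ι x * (m ^ (n + 1))⁻¹ = m ^ n * (m * ι x * m⁻¹) * (m ^ n)⁻¹ := by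
      rw [pow_succ]; group
    rw [e1, h x hx, ih _ (hN.conj_mem _ hx u), pow_succ]
    congr 1
    group

theorem NC_normal : (NC K).Normal := by
  refine ⟨fun x hx g => ?_⟩
  have hx' : x.be = 0 := hx
  show (g * x * g⁻¹).be = 0
  simp [hx']

theorem th_mem_NC {a : Kˣ} {x : CG K} (hx : x ∈ NC K) : th a x ∈ NC K := by
  have hx' : x.be = 0 := hx
  show (th a x).be = 0
  simp [hx']

theorem pow_be (u : CG K) (n : ℕ) : (u ^ n).be = n * u.be := by
  induction n with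
  | zero => simp
  | succ n ih =>
    rw [pow_succ, mul_be, ih]
    push_cast
    ring

/-- **No normal subgroup meets the Sylow 5-subgroup in `N`.** -/
theorem Facts.false_of_N {G : Type v} [Group G] [Finite G] {ι : CG K →* G} (hF : Facts ι) (T : Sylow 5 G)
    (hT : (T : Subgroup G) = ι.range) {M : Subgroup G} (hM : M.Normal) (hA : M.comap ι = NC K) : False := by
  haveI : Fact (Nat.Prime 5) := ⟨by norm_num⟩
  have hmemM : ∀ x, ι x ∈ M ↔ x ∈ NC K := fun x => by rw [← hA]; rfl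
  -- the Sylow subgroup of `M`
  set R : Subgroup G := (NC K).map ι with hR
  have hRp : IsPGroup 5 R := ((CG.isPGroup K).to_subgroup _).map ι
  have hRM : R ≤ M := by
    rintro _ ⟨x, hx, rfl⟩
    exact (hmemM x).2 hx
  -- a 5-subgroup of `M` containing `R` is `R`
  have hmax : ∀ Q : Subgroup G, IsPGroup 5 Q → Q ≤ M → Nat.card Q ≤ Nat.card R := by
    intro Q hQ hQM
    obtain ⟨P, hP⟩ := hQ.exists_le_sylow
    obtain ⟨g, hg⟩ := MulAction.exists_smul_eq G P T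
    have h1 : ∀ q ∈ Q, g * q * g⁻¹ ∈ R := by
      intro q hq
      have h2 : g * q * g⁻¹ ∈ (T : Subgroup G) := by
        rw [← hg, Sylow.coe_subgroup_smul]
        exact ⟨q, hP hq, rfl⟩
      rw [hT] at h2
      obtain ⟨x, hx⟩ := h2
      have h3 : ι x ∈ M := by rw [hx]; exact hM.conj_mem _ (hQM hq) g
      exact ⟨x, (hmemM x).1 h3, hx⟩
    refine Nat.card_le_card_of_injective (fun q : Q => (⟨g * q * g⁻¹, h1 q q.2⟩ : R)) ?_
    intro q q' h
    exact Subtype.ext (mul_left_cancel (mul_right_cancel (congrArg Subtype.val h)))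
  -- an element of order prime to the fusion
  obtain ⟨a, ha⟩ := exists_gen K
  obtain ⟨h, hhM, hh⟩ := tor_mem_IndS hF hM (by rw [hA]) a
  have hh' : ∀ w : K × K, h * ι (vv w) * h⁻¹ = ι (vv (a * w.1, ((a⁻¹ : Kˣ) : K) * w.2)) := by
    intro w
    rw [← hh, mv_mk2]
    congr 3
    · ring
    · ring
  -- the group `L`
  let L : Subgroup G :=
    { carrier := {m | m ∈ M ∧ ∃ c : K, ∀ w : K × K, m * ι (vv w) * m⁻¹ = ι (vv (w.1, w.2 + c * w.1))}
      one_mem' := ⟨M.one_mem, 0, fun w => by simp⟩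
      mul_mem' := fun {m n} ⟨h1, c, h2⟩ ⟨h1', c', h2'⟩ => ⟨M.mul_mem h1 h1', c + c', fun w => by
        have e1 : m * n * ι (vv w) * (m * n)⁻¹ = m * (n * ι (vv w) * n⁻¹) * m⁻¹ := by group
        rw [e1, h2', h2]
        congr 3
        ring⟩
      inv_mem' := fun {m} ⟨h1, c, h2⟩ => ⟨M.inv_mem h1, -c, fun w => by
        have h3 := h2 (w.1, w.2 + -c * w.1)
        have e1 : ((w.1, w.2 + -c * w.1 + c * w.1) : K × K) = w := by ext <;> simp
        simp only at h3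
        rw [e1] at h3
        rw [← h3]
        group⟩ }
  have hRL : R ≤ L := by
    rintro _ ⟨x, hx, rfl⟩
    refine ⟨(hmemM x).2 hx, -bar x.ga, fun w => ?_⟩
    rw [← map_mul, ← map_inv, ← map_mul, conj_vv _ hx]
    congr 3
    ring
  have hLM : L ≤ M := fun m hm => hm.1
  let Rh : Subgroup G := R.map (MulAut.conj h).toMonoidHom
  have hRhL : Rh ≤ L := by
    rintro _ ⟨r, hr, rfl⟩
    obtain ⟨h1, c, h2⟩ := hRL hr
    refine ⟨hM.conj_mem _ h1 h, c * (((a⁻¹ : Kˣ) : K) * ((a⁻¹ : Kˣ) : K)), fun w => ?_⟩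
    have h3 := hh' ((a⁻¹ : Kˣ) * w.1, a * w.2)
    have e0 : ((a : K) * (((a⁻¹ : Kˣ) : K) * w.1), ((a⁻¹ : Kˣ) : K) * (a * w.2)) = w := by
      ext
      · simp
      · simp
    simp only at h3
    rw [e0] at h3
    have h4 : h⁻¹ * ι (vv w) * h = ι (vv ((a⁻¹ : Kˣ) * w.1, a * w.2)) := by
      rw [← h3]; group
    show h * r * h⁻¹ * ι (vv w) * (h * r * h⁻¹)⁻¹ = _
    have e1 : h * r * h⁻¹ * ι (vv w) * (h * r * h⁻¹)⁻¹ = h * (r * (h⁻¹ * ι (vv w) * h) * r⁻¹) * h⁻¹ := by group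
    rw [e1, h4, h2, hh']
    congr 3
    · simp
    · simp only [mul_add]
      congr 1
      · simp
      · ring
  -- Sylow in `L`
  have hfinL : Finite L := inferInstance
  let RL : Subgroup L := R.subgroupOf L
  let RhL : Subgroup L := Rh.subgroupOf L
  have hcRL : Nat.card RL = Nat.card R := Nat.card_congr (Subgroup.subgroupOfEquivOfLe hRL).toEquiv
  have hcRhL : Nat.card RhL = Nat.card R := by
    rw [Nat.card_congr (Subgroup.subgroupOfEquivOfLe hRhL).toEquiv]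
    exact (Nat.card_congr (R.equivMapOfInjective (MulAut.conj h).toMonoidHom (MulAut.conj h).injective).toEquiv).symm
  have hRhp : IsPGroup 5 Rh := hRp.map _
  have hSylL : ∀ Q : Subgroup L, IsPGroup 5 Q → Nat.card Q = Nat.card R → ∃ P : Sylow 5 L, (P : Subgroup L) = Q := by
    intro Q hQ hc
    obtain ⟨P, hP⟩ := hQ.exists_le_sylow
    refine ⟨P, (Subgroup.eq_of_le_of_card_ge hP ?_).symm⟩
    have h1 := hmax ((P : Subgroup L).map L.subtype) (P.isPGroup'.map _) (by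
      rintro _ ⟨y, -, rfl⟩
      exact hLM y.2)
    rw [← Nat.card_congr ((P : Subgroup L).equivMapOfInjective L.subtype L.subtype_injective).toEquiv] at h1
    rw [hc]
    exact h1
  obtain ⟨P1, hP1⟩ := hSylL RL (hRp.comap_of_injective L.subtype L.subtype_injective) hcRL
  obtain ⟨P2, hP2⟩ := hSylL RhL (hRhp.comap_of_injective L.subtype L.subtype_injective) hcRhL
  obtain ⟨l, hl⟩ := MulAction.exists_smul_eq L P2 P1
  -- `h' = l h` normalizes `R`
  set h' : G := (l : G) * h with hh'def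
  have hh'M : h' ∈ M := M.mul_mem (hLM l.2) hhM
  have hnorm : ∀ x ∈ NC K, ∃ y ∈ NC K, ι y = h' * ι x * h'⁻¹ := by
    intro x hx
    have h1 : h * ι x * h⁻¹ ∈ Rh := ⟨ι x, ⟨x, hx, rfl⟩, rfl⟩
    have h2 : (⟨h * ι x * h⁻¹, hRhL h1⟩ : L) ∈ (P2 : Subgroup L) := by rw [hP2]; exact h1
    have h3 : l * (⟨h * ι x * h⁻¹, hRhL h1⟩ : L) * l⁻¹ ∈ (P1 : Subgroup L) := by
      rw [← hl, Sylow.coe_subgroup_smul]
      exact ⟨_, h2, rfl⟩
    rw [hP1] at h3
    obtain ⟨y, hy, hye⟩ : (l : G) * (h * ι x * h⁻¹) * (l : G)⁻¹ ∈ R := h3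
    refine ⟨y, hy, ?_⟩
    rw [hye, hh'def]
    group
  obtain ⟨s, t, hst⟩ := hF.norN h' (fun x hx => by
    obtain ⟨y, -, hy⟩ := hnorm x hx
    exact ⟨y, hy⟩)
  -- the action on `V`
  obtain ⟨-, c, hc⟩ := l.2
  have hV : ∀ w : K × K, s * th t (vv w) * s⁻¹ = vv (a * w.1, ((a⁻¹ : Kˣ) : K) * w.2 + c * (a * w.1)) := by
    intro w
    apply hF.inj
    rw [← hst (vv w) rfl, hh'def]
    have e1 : (l : G) * h * ι (vv w) * ((l : G) * h)⁻¹ = (l : G) * (h * ι (vv w) * h⁻¹) * (l : G)⁻¹ := by group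
    rw [e1, hh', hc]
  have hs0 : s.be = 0 := by
    have h1 := hV (1, 0)
    rw [th_vv] at h1
    refine be_eq_zero_of_conj (w := ((t : K) * ((1 : K), (0 : K)).1, (t : K) ^ 23 * ((1 : K), (0 : K)).2))
      (by simp) ?_
    rw [h1]
    exact vv_mem _
  have hta : t = a := by
    have h1 := hV (1, 0)
    rw [th_vv, conj_vv _ hs0] at h1
    have h2 := congrArg Prod.fst (vv_injective h1)
    simp only [mul_one] at h2
    exact Units.ext h2
  subst hta
  -- the commutator with `s1`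
  let s1 : CG K := ⟨0, 0, 0, 1⟩
  set u : CG K := s * th t s1 * s⁻¹ * s1⁻¹ with hu
  have hub : u.be = (t : K) ^ 9 - 1 := by
    rw [hu]
    simp [s1, sub_eq_add_neg]
  have hu0 : u.be ≠ 0 := by
    rw [hub, sub_ne_zero]
    exact gen_pow_ne ha (by norm_num)
  set m : G := h' * ι s1 * h'⁻¹ * (ι s1)⁻¹ with hm
  have hmM : m ∈ M := by
    have e1 : m = h' * (ι s1 * h'⁻¹ * (ι s1)⁻¹) := by rw [hm]; group
    rw [e1]
    exact M.mul_mem hh'M (hM.conj_mem _ (M.inv_mem hh'M) _)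
  have hNn := NC_normal (K := K)
  have hmact : ∀ x ∈ NC K, m * ι x * m⁻¹ = ι (u * x * u⁻¹) := by
    intro x hx
    set y : CG K := s1⁻¹ * x * s1 with hy
    have hyN : y ∈ NC K := by
      have := hNn.conj_mem _ hx s1⁻¹
      rwa [inv_inv] at this
    set y' : CG K := th t⁻¹ (s⁻¹ * y * s) with hy'
    have hsyN : s⁻¹ * y * s ∈ NC K := by
      have := hNn.conj_mem _ hyN s⁻¹
      rwa [inv_inv] at this
    have hy'N : y' ∈ NC K := th_mem_NC hsyN
    have hty' : th t y' = s⁻¹ * y * s := by rw [hy', th_th, mul_inv_cancel, th_one]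
    have e1 : h' * ι y' * h'⁻¹ = ι y := by
      rw [hst y' hy'N, hty']
      congr 1
      group
    have e2 : (ι s1)⁻¹ * ι x * ι s1 = ι y := by rw [hy]; simp
    have e3 : m * ι x * m⁻¹ = h' * ι s1 * h'⁻¹ * ((ι s1)⁻¹ * ι x * ι s1) * (h' * (ι s1)⁻¹ * h'⁻¹) := by
      rw [hm]; group
    have e4 : h' * ι s1 * h'⁻¹ * (h' * ι y' * h'⁻¹) * (h' * (ι s1)⁻¹ * h'⁻¹) =
        h' * ι (s1 * y' * s1⁻¹) * h'⁻¹ := by
      rw [map_mul, map_mul, map_inv]; group
    rw [e3, e2, ← e1, e4, hst _ (hNn.conj_mem _ hy'N s1)]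
    congr 1
    have e5 : th t (s1 * y' * s1⁻¹) = th t s1 * (s⁻¹ * y * s) * (th t s1)⁻¹ := by
      have h1 : ∀ z, th t z = CG.tor K t z := fun z => rfl
      rw [← hty', h1, h1, h1, map_mul, map_mul, map_inv]
    rw [e5, hu, hy]
    group
  -- the 5-part of `m`
  set n := ordCompl[5] (orderOf m) with hn
  have hn5 : ¬ 5 ∣ n := Nat.not_dvd_ordCompl (by norm_num) (orderOf_pos m).ne'
  have hmn : (m ^ n) ^ 5 ^ ((orderOf m).factorization 5) = 1 := by
    rw [← pow_mul, hn, mul_comm, Nat.ordProj_mul_ordCompl_eq_self, pow_orderOf_eq_one]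
  have hact := pow_act hmact hNn n
  -- `m ^ n` is a 5-element of `M` normalizing `R`
  have hmnM : m ^ n ∈ M := M.pow_mem hmM n
  have hmnR : m ^ n ∈ R := by
    have hZ : IsPGroup 5 (Subgroup.zpowers (m ^ n)) := by
      have h1 : orderOf (m ^ n) ∣ 5 ^ ((orderOf m).factorization 5) := orderOf_dvd_of_pow_eq_one hmn
      obtain ⟨k, -, hk⟩ := (Nat.dvd_prime_pow (by norm_num)).1 h1
      exact IsPGroup.of_card (n := k) (by rw [Nat.card_zpowers, hk])
    have hle : Subgroup.zpowers (m ^ n) ≤ Subgroup.normalizer (R : Set G) := by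
      rw [Subgroup.zpowers_le]
      rw [Subgroup.mem_normalizer_iff]
      intro x
      constructor
      · rintro ⟨y, hy, rfl⟩
        exact ⟨u ^ n * y * (u ^ n)⁻¹, hNn.conj_mem _ hy _, (hact y hy).symm⟩
      · rintro ⟨y, hy, hye⟩
        have h1 := hact ((u ^ n)⁻¹ * y * u ^ n) (by
          have := hNn.conj_mem _ hy (u ^ n)⁻¹
          rwa [inv_inv] at this)
        have e1 : u ^ n * ((u ^ n)⁻¹ * y * u ^ n) * (u ^ n)⁻¹ = y := by group
        rw [e1, hye] at h1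
        have h2 := mul_left_cancel (mul_right_cancel h1)
        rw [← h2]
        exact ⟨_, by
          have := hNn.conj_mem _ hy (u ^ n)⁻¹
          rwa [inv_inv] at this, rfl⟩
    have hsup : IsPGroup 5 ↥(R ⊔ Subgroup.zpowers (m ^ n)) := by
      rw [sup_comm]
      exact hZ.to_sup_of_normal_right' hRp hle
    have h1 := hmax _ hsup (sup_le hRM (by rw [Subgroup.zpowers_le]; exact hmnM))
    have h2 : R = R ⊔ Subgroup.zpowers (m ^ n) := Subgroup.eq_of_le_of_card_ge le_sup_left h1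
    rw [h2]
    exact (le_sup_right : _ ≤ R ⊔ Subgroup.zpowers (m ^ n)) (Subgroup.mem_zpowers _)
  obtain ⟨n0, hn0, hn0e⟩ := hmnR
  -- so `u ^ n` lies in `N`
  have hcomm : ∀ x ∈ NC K, ((u ^ n)⁻¹ * n0) * x = x * ((u ^ n)⁻¹ * n0) := by
    intro x hx
    have h1 := hact x hx
    rw [← hn0e, ← map_inv, ← map_mul, ← map_mul] at h1
    have h2 := hF.inj h1
    calc ((u ^ n)⁻¹ * n0) * x = (u ^ n)⁻¹ * (n0 * x * n0⁻¹) * n0 := by group
      _ = (u ^ n)⁻¹ * (u ^ n * x * (u ^ n)⁻¹) * n0 := by rw [h2]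
      _ = _ := by group
  have h1 : (u ^ n)⁻¹ * n0 ∈ VC K := mem_VC_of_comm fun w => hcomm (vv w) rfl
  have h2 : ((u ^ n)⁻¹ * n0).be = 0 := h1.2
  have h3 : n0.be = 0 := hn0
  rw [mul_be, inv_be, h3, pow_be, add_zero, neg_eq_zero] at h2
  rcases mul_eq_zero.1 h2 with h4 | h4
  · haveI := charP K
    exact hn5 ((CharP.cast_eq_zero_iff K 5 n).1 h4)
  · exact hu0 h4

end Cfsg.Agent.H771.M5
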