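import Cfsg.Agent.H771.M5.SysA
import Cfsg.Agent.H775.ExtendCore
import Cfsg.Agent.H802.FusGroup
import Mathlib.LinearAlgebra.Matrix.GeneralLinearGroup.Card

/-!
# The exotic system: saturation (helper771)
-/

set_option autoImplicit false
set_option linter.unusedSectionVars false
set_option linter.style.haveILetI false

namespace Cfsg.Agent.H771.M5

open SemidirectProduct CG Cfsg Cfsg.FusionSystem Cfsg.Agent.H802 Cfsg.Agent.H775.Ext

variable (K : Type*) [Field K] [F25 K]

/-- the Sylow subgroup -/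
noncomputable def TH : Sylow 5 (HG K) :=
  haveI := HG_finite K
  haveI : Fact (Nat.Prime 5) := ⟨by norm_num⟩
  Sylow.ofCard (SH K) (by
    rw [card_SH, card_HG, Nat.factorization_mul (by norm_num) (by norm_num), Finsupp.add_apply,
      Nat.Prime.factorization_pow (by norm_num), Finsupp.single_eq_same,
      Nat.factorization_eq_zero_of_not_dvd (by norm_num), add_zero])

theorem TH_coe : (TH K : Subgroup (HG K)) = SH K := rfl

/-- the fusion system of `CG ⋊ Kˣ` -/
def F0 : FusionSystem (SH K) := groupFusionSystem (SH K)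

theorem F0_sat : (F0 K).IsSaturated 5 := by
  haveI := HG_finite K
  haveI : Fact (Nat.Prime 5) := ⟨by norm_num⟩
  exact groupFusionSystem_isSaturated (TH K)

/-- the added automorphisms -/
def Del : Subgroup (MulAut (VH K)) := (rho K).range

/-- the system -/
def DS : FusionSystem (SH K) := ext (F0 K) (VH_le (K := K)) (Del K)

variable {K}

theorem conj_coord (g : HG K) (hg : ∀ w, g * inl (vv w) * g⁻¹ ∈ VH K) :
    g.left.be = 0 ∧ ∀ w : K × K, g * inl (vv w) * g⁻¹ =
      inl (vv (g.right * w.1, -(g.right * bar g.left.ga) * w.1 + (g.right : K) ^ 23 * w.2)) := by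
  have h1 : g.left.be = 0 := by
    have h2 := hg (1, 0)
    rw [conj_inl, inl_mem_VH, th_vv] at h2
    exact be_eq_zero_of_conj (by simp) h2
  refine ⟨h1, fun w => ?_⟩
  rw [conj_inl, th_vv, conj_vv _ h1]
  congr 2
  ext
  · rfl
  · simp
    ring

theorem units_23 (a : Kˣ) : (a : K) * (a : K) ^ 23 = 1 := by
  rw [← pow_succ']
  exact units_pow a

theorem aut_F0_iff (α : MulAut (VH K)) :
    α ∈ (F0 K).autGroup (VH K) ↔ ∃ g : Matrix.SpecialLinearGroup (Fin 2) K, g 0 1 = 0 ∧ α = rho K g := by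
  rw [mem_autGroup_iff _ VH_le]
  constructor
  · rintro ⟨-, -, g, hg⟩
    have hg' : ∀ x : VH K, ((α x : VH K) : HG K) = g * x * g⁻¹ := hg
    obtain ⟨h1, h2⟩ := conj_coord g (fun w => by
      have := hg' (ew w)
      rw [coe_ew] at this
      rw [← this]
      exact (α (ew w)).2)
    refine ⟨mk2 (g.right : K) 0 (-(g.right * bar g.left.ga)) ((g.right : K) ^ 23) (by
      rw [units_23]; ring), rfl, ?_⟩
    apply MulEquiv.ext
    intro x
    obtain ⟨w, rfl⟩ := ew_surj x
    apply Subtype.ext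
    rw [hg', coe_ew, h2, rho_apply, coe_ew, mv_mk2]
    congr 2
    ext
    · simp
    · rfl
  · rintro ⟨g, hg, rfl⟩
    have hdet := det_two g
    rw [hg, zero_mul, sub_zero] at hdet
    have ha : g 0 0 ≠ 0 := fun h => by rw [h, zero_mul] at hdet; exact zero_ne_one hdet
    set a : Kˣ := Units.mk0 (g 0 0) ha with hadef
    have ha' : (a : K) = g 0 0 := rfl
    have ha23 : (a : K) ^ 23 = g 1 1 := by
      have h := units_23 a
      rw [ha'] at h ⊢
      exact mul_left_cancel₀ ha (h.trans hdet.symm)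
    obtain ⟨c, hc⟩ := bar_surjective (-(g 1 0 * g 1 1) : K)
    let h : HG K := ⟨⟨0, c, 0, 0⟩, a⟩
    have hh : ∀ w : K × K, h * inl (vv w) * h⁻¹ = inl (vv (mv g w)) := by
      intro w
      rw [conj_inl, th_vv, conj_vv _ rfl]
      congr 2
      unfold mv
      ext
      · simp [hg, ha', h]
      · show (a : K) ^ 23 * w.2 - (a : K) * w.1 * bar c = _
        rw [hc, ha23, ha']
        simp only
        linear_combination (w.1 * g 1 0) * hdet
    refine ⟨VH_le, fun x => VH_le ((rho K g x).2), h, ?_⟩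
    intro x
    obtain ⟨w, rfl⟩ := ew_surj x
    show ((rho K g (ew w) : VH K) : HG K) = _
    rw [rho_apply, coe_ew, coe_ew, hh]

theorem aut_le : (F0 K).autGroup (VH K) ≤ Del K := by
  intro α hα
  obtain ⟨g, -, rfl⟩ := (aut_F0_iff α).1 hα
  exact ⟨g, rfl⟩

theorem aut_ne : ¬ Del K ≤ (F0 K).autGroup (VH K) := by
  intro h
  obtain ⟨g, hg, he⟩ := (aut_F0_iff _).1 (h ⟨mk2 0 1 (-1) 0 (by ring), rfl⟩)
  have h1 := rho_injective he
  rw [← h1] at hg
  exact one_ne_zero hg

theorem isConj_VH {Q : Subgroup (HG K)} (h : (F0 K).IsConj (VH K) Q) :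
    ∃ g : HG K, ∀ x, x ∈ Q ↔ g⁻¹ * x * g ∈ VH K := by
  obtain ⟨φ, ⟨-, -, g, hg⟩, rfl⟩ := h
  refine ⟨g, fun x => ⟨?_, fun hx => ⟨⟨_, hx⟩, ?_⟩⟩⟩
  · rintro ⟨y, rfl⟩
    rw [hg]
    have : g⁻¹ * (g * (y : HG K) * g⁻¹) * g = y := by group
    rw [this]
    exact y.2
  · rw [hg]
    group

theorem VH_fn : (F0 K).IsFullyNormalized (VH K) := by
  haveI := HG_finite K
  refine ⟨VH_le, fun Q hQ => ?_⟩
  obtain ⟨g, hg⟩ := isConj_VH hQ
  have hS := SH_normal (K := K)
  refine Nat.card_le_card_of_injective (fun x : normalizerIn (SH K) Q =>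
    (⟨g⁻¹ * x * g, ?_, ?_⟩ : normalizerIn (SH K) (VH K))) ?_
  · have h := hS.conj_mem _ x.2.1 g⁻¹
    rwa [inv_inv] at h
  · have hx := Subgroup.mem_normalizer_iff.1 x.2.2
    refine Subgroup.mem_normalizer_iff.2 fun y => ?_
    have h1 := hx (g * y * g⁻¹)
    show y ∈ VH K ↔ _
    have e1 : g⁻¹ * (g * y * g⁻¹) * g = y := by group
    have e2 : g⁻¹ * ((x : HG K) * (g * y * g⁻¹) * (x : HG K)⁻¹) * g = (g⁻¹ * x * g) * y * (g⁻¹ * x * g)⁻¹ := by group
    have h2 : (g * y * g⁻¹ ∈ Q) ↔ (x : HG K) * (g * y * g⁻¹) * (x : HG K)⁻¹ ∈ Q := h1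
    rw [hg, hg, e1, e2] at h2
    exact h2
  · intro x y hxy
    have h1 := congrArg Subtype.val hxy
    exact Subtype.ext (mul_left_cancel (mul_right_cancel h1))

theorem cent_VH : centralizerIn (SH K) (VH K) ≤ VH K := by
  rintro _ ⟨⟨s, rfl⟩, h⟩
  rw [inl_mem_VH]
  apply mem_VC_of_comm
  intro w
  apply inl_injective (φ := tor K)
  rw [map_mul, map_mul]
  exact (Subgroup.mem_centralizer_iff.1 h _ (mem_VH.2 ⟨w, rfl⟩)).symm

theorem VH_centric : (F0 K).IsCentric (VH K) := by
  refine ⟨VH_le, fun Q hQ => ?_⟩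
  obtain ⟨g, hg⟩ := isConj_VH hQ
  intro x hx
  rw [hg]
  apply cent_VH
  refine ⟨?_, ?_⟩
  · have h := (SH_normal (K := K)).conj_mem _ hx.1 g⁻¹
    rwa [inv_inv] at h
  · refine Subgroup.mem_centralizer_iff.2 fun y hy => ?_
    have h1 : g * y * g⁻¹ ∈ Q := by
      rw [hg]
      have : g⁻¹ * (g * y * g⁻¹) * g = y := by group
      rw [this]
      exact hy
    have h2 := Subgroup.mem_centralizer_iff.1 hx.2 _ h1
    calc y * (g⁻¹ * x * g) = g⁻¹ * ((g * y * g⁻¹) * x) * g := by group
      _ = g⁻¹ * (x * (g * y * g⁻¹)) * g := by rw [h2]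
      _ = _ := by group

theorem VH_comm : ∀ x ∈ VH K, ∀ y ∈ VH K, x * y = y * x := by
  intro x hx y hy
  obtain ⟨w, rfl⟩ := mem_VH.1 hx
  obtain ⟨w', rfl⟩ := mem_VH.1 hy
  rw [← map_mul, ← map_mul, vv_mul, vv_mul, add_comm]

theorem VH_min (P : Subgroup (HG K)) (hP : P < VH K) : ¬ (F0 K).IsCentric P := by
  intro h
  have h1 := h.2 P (isConj_refl _ h.1)
  apply hP.not_ge
  intro x hx
  apply h1
  exact ⟨VH_le hx, Subgroup.mem_centralizer_iff.2 fun y hy => VH_comm y (hP.le hy) x hx⟩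

theorem five_pow_eq_one {a : K} {k : ℕ} (h : a ^ 5 ^ k = 1) : a = 1 := by
  haveI := charP K
  haveI : Fact (Nat.Prime 5) := ⟨by norm_num⟩
  haveI : ExpChar K 5 := ExpChar.prime (by norm_num)
  have h1 : (a - 1) ^ 5 ^ k = 0 := by
    rw [sub_pow_expChar_pow, one_pow, h, sub_self]
  exact sub_eq_zero.1 (pow_eq_zero_iff (by positivity) |>.1 h1)

theorem hse : ∀ δ ∈ Del K, δ ∉ (F0 K).autGroup (VH K) → ∀ α ∈ (F0 K).autGroup (VH K),
    δ * α * δ⁻¹ ∈ (F0 K).autGroup (VH K) → (∃ k : ℕ, α ^ 5 ^ k = 1) → α = 1 := by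
  rintro _ ⟨g, rfl⟩ hg α hα hc ⟨k, hk⟩
  obtain ⟨h, hh, rfl⟩ := (aut_F0_iff _).1 hα
  have hg1 : g 0 1 ≠ 0 := fun h0 => hg ((aut_F0_iff _).2 ⟨g, h0, rfl⟩)
  rw [← map_pow] at hk
  have hk1 : h ^ 5 ^ k = 1 := rho_injective (by rw [hk, map_one])
  -- the diagonal entry
  have hp : ∀ n : ℕ, (h ^ n) 0 0 = (h 0 0) ^ n ∧ (h ^ n) 0 1 = 0 := by
    intro n
    induction n with
    | zero => simp
    | succ n ih =>
      rw [pow_succ, Matrix.SpecialLinearGroup.coe_mul, Matrix.mul_apply, Matrix.mul_apply, Fin.sum_univ_two,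
        Fin.sum_univ_two, ih.1, ih.2, hh, pow_succ]
      simp
  have h00 : h 0 0 = 1 := by
    have h1 := (hp (5 ^ k)).1
    rw [hk1] at h1
    exact five_pow_eq_one (k := k) (by rw [← h1]; simp)
  have hdet := det_two h
  rw [h00, hh, one_mul, zero_mul, sub_zero] at hdet
  rw [← map_mul, ← map_inv, ← map_mul] at hc
  obtain ⟨m, hm, he⟩ := (aut_F0_iff _).1 hc
  have he' := rho_injective he
  have h3 : (g * h * g⁻¹ : Matrix.SpecialLinearGroup (Fin 2) K) 0 1 = 0 := by rw [he']; exact hm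
  have hdg := det_two g
  have h4 : (g * h : Matrix.SpecialLinearGroup (Fin 2) K) = (m * g) := by
    rw [← he']; group
  have e0 : (g * h : Matrix.SpecialLinearGroup (Fin 2) K) 0 0 = (m * g) 0 0 := by rw [h4]
  have e1 : (g * h : Matrix.SpecialLinearGroup (Fin 2) K) 0 1 = (m * g) 0 1 := by rw [h4]
  rw [Matrix.SpecialLinearGroup.coe_mul, Matrix.SpecialLinearGroup.coe_mul, Matrix.mul_apply, Matrix.mul_apply,
    Fin.sum_univ_two, Fin.sum_univ_two] at e0 e1
  rw [hm, h00] at e0
  rw [hm, hh, hdet] at e1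
  have hm0 : m 0 0 = 1 := by
    apply mul_right_cancel₀ hg1
    rw [one_mul]
    linear_combination -e1
  rw [hm0] at e0
  have h5 : g 0 1 * h 1 0 = 0 := by linear_combination e0
  have h10 : h 1 0 = 0 := (mul_eq_zero.1 h5).resolve_left hg1
  have : h = 1 := by
    ext i j
    fin_cases i <;> fin_cases j
    · exact h00
    · exact hh
    · exact h10
    · exact hdet
  rw [this, map_one]

theorem hidx : ¬ 5 ∣ ((F0 K).autGroup (VH K)).relIndex (Del K) := by
  haveI := F25.finite K
  haveI : Fintype K := Fintype.ofFinite K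
  haveI := HG_finite K
  intro hd
  -- the order of `Del`
  have h1 : Nat.card (Del K) ∣ 624 * 600 := by
    have h2 : Nat.card (Matrix.SpecialLinearGroup (Fin 2) K) ∣ Nat.card (GL (Fin 2) K) := by
      exact Subgroup.card_dvd_of_injective (Matrix.SpecialLinearGroup.toGL (n := Fin 2) (R := K))
        Matrix.SpecialLinearGroup.toGL_injective
    rw [Matrix.card_GL_field, ← Nat.card_eq_fintype_card, F25.card (K := K), Fin.prod_univ_two] at h2
    have h3 : Nat.card (Del K) = Nat.card (Matrix.SpecialLinearGroup (Fin 2) K) :=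
      (Nat.card_congr (MonoidHom.ofInjective rho_injective).toEquiv).symm
    rw [h3]
    exact h2
  -- 25 divides the order of the Borel subgroup
  have h25 : 25 ∣ Nat.card ((F0 K).autGroup (VH K)) := by
    let f : Multiplicative K →* (F0 K).autGroup (VH K) :=
      { toFun := fun c => ⟨rho K (mk2 1 0 c.toAdd 1 (by ring)), (aut_F0_iff _).2 ⟨_, rfl, rfl⟩⟩
        map_one' := by
          apply Subtype.ext
          show rho K _ = 1
          rw [← map_one (rho K)]
          congr 1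
          ext i j
          fin_cases i <;> fin_cases j <;> rfl
        map_mul' := fun a b => by
          apply Subtype.ext
          show rho K _ = rho K _ * rho K _
          rw [← map_mul]
          congr 1
          apply mv_ext
          intro w
          rw [mv_mul, mv_mk2, mv_mk2, mv_mk2]
          ext
          · simp
          · simp
            ring }
    have hf : Function.Injective f := by
      intro a b hab
      have h2 := rho_injective (congrArg Subtype.val hab)
      have h3 := congrArg (fun m : Matrix.SpecialLinearGroup (Fin 2) K => m 1 0) h2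
      exact h3
    have h2 := Subgroup.card_dvd_of_injective f hf
    rwa [Nat.card_congr (Multiplicative.toAdd (α := K)), F25.card (K := K)] at h2
  have h3 : Nat.card ((F0 K).autGroup (VH K)) * ((F0 K).autGroup (VH K)).relIndex (Del K) = Nat.card (Del K) := by
    have h3 := Subgroup.card_mul_index (((F0 K).autGroup (VH K)).subgroupOf (Del K))
    rw [Nat.card_congr (Subgroup.subgroupOfEquivOfLe aut_le).toEquiv] at h3
    exact h3
  have h4 : 25 * 5 ∣ 624 * 600 := by
    refine dvd_trans ?_ h1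
    rw [← h3]
    exact Nat.mul_dvd_mul h25 hd
  norm_num at h4

theorem DS_sat : (DS K).IsSaturated 5 := by
  haveI := HG_finite K
  haveI : Fact (Nat.Prime 5) := ⟨by norm_num⟩
  exact ext_isSaturated (TH K).isPGroup' (F0_sat K) VH_fn VH_centric VH_min aut_le hidx hse

theorem DS_not_normal : ¬ (DS K).IsNormal (SH K) := by
  haveI := HG_finite K
  intro h
  have h1 := normal_le_E VH_le aut_ne h
  have h2 := h1 (inl_mem (⟨0, 1, 0, 0⟩ : CG K))
  rw [inl_mem_VH] at h2
  exact one_ne_zero h2.1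

end Cfsg.Agent.H771.M5
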